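import Groth.Agent.Lib.GenFree.Generic
import Mathlib.RingTheory.Localization.FractionRing
import Mathlib.RingTheory.Localization.Away.Basic
import Mathlib.RingTheory.Flat.Localization
import Mathlib.LinearAlgebra.TensorProduct.RightExactness
import Mathlib.RingTheory.Localization.BaseChange

/-!
# Exactness on the fibres over a dense open from exactness on the generic fibre
-/

universe u

set_option linter.all false

open TensorProduct

namespace GrothLib.GenExact

open GrothLib.GenFree

section

variable {R : Type u} [CommRing R] {M N : Type u} [AddCommGroup M] [Module R M] [AddCommGroup N] [Module R N]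

/-- Tensor products of an `f`-torsion module with an algebra inverting `f` vanish. -/
theorem subsingleton_tensor_of_torsion {S : Type u} [CommRing S] [Algebra R S] {f : R}
    (hf : IsUnit (algebraMap R S f)) (h : ∀ m : M, ∃ e : ℕ, f ^ e • m = 0) : Subsingleton (S ⊗[R] M) := by
  refine subsingleton_of_forall_eq 0 fun z => ?_
  induction z using TensorProduct.induction_on with
  | zero => rfl
  | tmul a m =>
    obtain ⟨e, he⟩ := h m
    obtain ⟨b, hb⟩ := (hf.pow e).exists_right_inv
    have ha : a = f ^ e • (b * a) := by rw [Algebra.smul_def, map_pow, ← mul_assoc, hb, one_mul]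
    rw [ha, TensorProduct.smul_tmul, he, TensorProduct.tmul_zero]
  | add x y hx hy => rw [hx, hy, add_zero]

/-- A map which is bijective up to powers of `f` becomes bijective over an algebra inverting `f`. -/
theorem injective_lTensor_of_almost {S : Type u} [CommRing S] [Algebra R S] {f : R}
    (hf : IsUnit (algebraMap R S f)) (θ : M →ₗ[R] N)
    (hk : ∀ m, θ m = 0 → ∃ e : ℕ, f ^ e • m = 0) (hs : ∀ n, ∃ (e : ℕ) (m : M), θ m = f ^ e • n) :
    Function.Injective (θ.lTensor S) := by
  let A := Localization.Away f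
  haveI : Module.Flat R A := IsLocalization.flat A (Submonoid.powers f)
  have hfA : IsUnit (algebraMap R A f) := IsLocalization.Away.algebraMap_isUnit f
  -- bijectivity over the localisation
  have hinj : Function.Injective (θ.lTensor A) := by
    refine (injective_iff_map_eq_zero _).2 fun z hz => ?_
    obtain ⟨w, rfl⟩ := (Module.Flat.lTensor_exact A (LinearMap.exact_subtype_ker_map θ) z).1 hz
    haveI := subsingleton_tensor_of_torsion (M := LinearMap.ker θ) hfA fun m => by
      obtain ⟨e, he⟩ := hk m.1 m.2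
      exact ⟨e, Subtype.ext he⟩
    rw [Subsingleton.elim w 0, map_zero]
  have hsurj : Function.Surjective (θ.lTensor A) := fun z => by
    haveI := subsingleton_tensor_of_torsion (M := N ⧸ LinearMap.range θ) hfA fun q => by
      obtain ⟨n, rfl⟩ := Submodule.Quotient.mk_surjective _ q
      obtain ⟨e, m, hm⟩ := hs n
      refine ⟨e, ?_⟩
      rw [← Submodule.Quotient.mk_smul, ← hm, Submodule.Quotient.mk_eq_zero]
      exact ⟨m, rfl⟩
    exact (lTensor_exact A (LinearMap.exact_map_mkQ_range θ) (Submodule.mkQ_surjective _) z).1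
      (Subsingleton.elim _ _)
  -- descend along the retraction
  let j : A →ₐ[R] S := IsLocalization.liftAlgHom (M := Submonoid.powers f) (f := Algebra.ofId R S)
    (by rintro ⟨_, e, rfl⟩; simpa using hf.pow e)
  let i : ∀ (P : Type u) [AddCommGroup P] [Module R P], S ⊗[R] P →ₗ[R] S ⊗[R] (A ⊗[R] P) := fun P _ _ =>
    LinearMap.lTensor S (TensorProduct.mk R A P 1)
  let back : ∀ (P : Type u) [AddCommGroup P] [Module R P], S ⊗[R] (A ⊗[R] P) →ₗ[R] S ⊗[R] P := fun P _ _ =>
    (LinearMap.mul' R S ∘ₗ j.toLinearMap.lTensor S).rTensor P ∘ₗ (TensorProduct.assoc R S A P).symm.toLinearMap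
  have hback : ∀ (P : Type u) [AddCommGroup P] [Module R P] (z : S ⊗[R] P), back P (i P z) = z := by
    intro P _ _ z
    induction z using TensorProduct.induction_on with
    | zero => simp
    | tmul s p => simp [i, back]
    | add x y hx hy => rw [map_add, map_add, hx, hy]
  have hnat : (LinearMap.lTensor S (θ.lTensor A)) ∘ₗ i M = i N ∘ₗ θ.lTensor S :=
    TensorProduct.ext' fun s m => by simp [i]
  intro x y hxy
  have h := congrArg (i N) hxy
  rw [← LinearMap.comp_apply, ← LinearMap.comp_apply, ← hnat] at h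
  have h2 := (LinearEquiv.lTensor S (LinearEquiv.ofBijective _ ⟨hinj, hsurj⟩)).injective
    (a₁ := i M x) (a₂ := i M y) h
  rw [← hback M x, h2, hback]

/-- Torsion of a module free on `D(f)` is killed by powers of `f`. -/
theorem pow_smul_eq_zero_of_torsion [IsDomain R] {f : R} (h : FreeOn f M) (hf : f ≠ 0) {r : R} (hr : r ≠ 0)
    {m : M} (hm : r • m = 0) : ∃ e : ℕ, f ^ e • m = 0 := by
  obtain ⟨κ, φ, h1, h2⟩ := h
  obtain ⟨e, l, hl⟩ := h1 m
  have hrl : φ (r • l) = 0 := by rw [map_smul, hl, smul_comm, hm, smul_zero]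
  obtain ⟨d, hdl⟩ := h2 _ hrl
  rw [smul_smul] at hdl
  have hl0 : l = 0 := (smul_eq_zero.1 hdl).resolve_left (mul_ne_zero (pow_ne_zero d hf) hr)
  exact ⟨e, by rw [← hl, hl0, map_zero]⟩

end

/-- **Fibrewise exactness over a dense open.** -/
theorem exists_forall_exact {R B : Type u} [CommRing R] [IsDomain R] [CommRing B] [Algebra R B]
    [Algebra.FiniteType R B] {F G H : Type u} [AddCommGroup F] [Module B F] [Module R F] [IsScalarTower R B F]
    [AddCommGroup G] [Module B G] [Module R G] [IsScalarTower R B G] [Module.Finite B G]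
    [AddCommGroup H] [Module B H] [Module R H] [IsScalarTower R B H] [Module.Finite B H]
    (u : F →ₗ[B] G) (v : G →ₗ[B] H)
    (hgen : Function.Exact ((u.restrictScalars R).baseChange (FractionRing R))
      ((v.restrictScalars R).baseChange (FractionRing R))) :
    ∃ f : R, f ≠ 0 ∧ ∀ (S : Type u) [CommRing S] [Algebra R S], IsUnit (algebraMap R S f) →
      Function.Exact ((u.restrictScalars R).baseChange S) ((v.restrictScalars R).baseChange S) := by
  classical
  let K := FractionRing R
  let u' := u.restrictScalars R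
  let v' := v.restrictScalars R
  obtain ⟨f₁, -, hf₁, hC⟩ := gf_of_finiteType (R := R) B (G ⧸ LinearMap.range u) 1 one_ne_zero
  obtain ⟨f₂, hd₂, hf₂, hH⟩ := gf_of_finiteType (R := R) B H f₁ hf₁
  obtain ⟨f, hd, hf, hQ⟩ := gf_of_finiteType (R := R) B (H ⧸ LinearMap.range v) f₂ hf₂
  replace hC := hC.mono (hd₂.trans hd)
  replace hH := hH.mono hd
  let C := G ⧸ LinearMap.range u
  let π : G →ₗ[R] C := (LinearMap.range u).mkQ.restrictScalars R
  have hπu : π ∘ₗ u' = 0 := LinearMap.ext fun x => (Submodule.Quotient.mk_eq_zero _).2 ⟨x, rfl⟩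
  haveI : IsLocalizedModule (nonZeroDivisors R) (TensorProduct.mk R K H 1) :=
    (isLocalizedModule_iff_isBaseChange (nonZeroDivisors R) K _).2 (TensorProduct.isBaseChange R H K)
  haveI : IsLocalizedModule (nonZeroDivisors R) (TensorProduct.mk R K C 1) :=
    (isLocalizedModule_iff_isBaseChange (nonZeroDivisors R) K _).2 (TensorProduct.isBaseChange R C K)
  -- the composite is `f`-power torsion
  have hvu : ∀ x, ∃ e : ℕ, f ^ e • v' (u' x) = 0 := fun x => by
    have h := hgen.apply_apply_eq_zero ((1 : K) ⊗ₜ x)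
    rw [LinearMap.baseChange_tmul, LinearMap.baseChange_tmul] at h
    obtain ⟨c, hc⟩ := (IsLocalizedModule.eq_zero_iff (nonZeroDivisors R) (TensorProduct.mk R K H 1)).1 h
    exact pow_smul_eq_zero_of_torsion hH hf (nonZeroDivisors.ne_zero c.2) hc
  -- the kernel of `v` on the cokernel of `u` is `f`-power torsion
  have hker : ∀ g : G, (∃ e : ℕ, f ^ e • v' g = 0) → ∃ e : ℕ, f ^ e • π g = 0 := by
    rintro g ⟨e, he⟩
    have h0 : v'.baseChange K ((1 : K) ⊗ₜ (f ^ e • g)) = 0 := by
      rw [LinearMap.baseChange_tmul, map_smul, he, TensorProduct.tmul_zero]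
    obtain ⟨w, hw⟩ := (hgen _).1 h0
    have h1 : π.baseChange K (u'.baseChange K w) = 0 := by
      rw [← LinearMap.comp_apply, ← LinearMap.baseChange_comp, hπu]
      simp
    rw [show u'.baseChange K w = _ from hw, LinearMap.baseChange_tmul] at h1
    obtain ⟨c, hc⟩ := (IsLocalizedModule.eq_zero_iff (nonZeroDivisors R) (TensorProduct.mk R K C 1)).1 h1
    obtain ⟨d, hd'⟩ := pow_smul_eq_zero_of_torsion hC hf (nonZeroDivisors.ne_zero c.2) hc
    exact ⟨d + e, by rwa [map_smul, smul_smul, ← pow_add] at hd'⟩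
  obtain ⟨κ, φ, h1, h2⟩ := hQ
  choose b hb using fun i : κ => Submodule.Quotient.mk_surjective (LinearMap.range v) (φ (Finsupp.single i 1))
  let ψ : (κ →₀ R) →ₗ[R] H := Finsupp.linearCombination R b
  have hψ : ∀ l, Submodule.Quotient.mk (p := LinearMap.range v) (ψ l) = φ l := fun l => by
    induction l using Finsupp.induction_linear with
    | zero => simp [ψ]
    | add x y hx hy => rw [map_add, Submodule.Quotient.mk_add, hx, hy, map_add]
    | single i r =>
      rw [Finsupp.linearCombination_single, Submodule.Quotient.mk_smul, hb, ← map_smul, Finsupp.smul_single,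
        smul_eq_mul, mul_one]
  -- remove the torsion of `H`
  let T : Submodule R H :=
    { carrier := {h | ∃ e : ℕ, f ^ e • h = 0}
      zero_mem' := ⟨0, smul_zero _⟩
      add_mem' := fun {a b} ⟨e, he⟩ ⟨d, hd'⟩ => ⟨e + d, by
        rw [smul_add, pow_add, mul_comm, mul_smul, he, smul_zero, zero_add, mul_comm, mul_smul, hd', smul_zero]⟩
      smul_mem' := fun r a ⟨e, he⟩ => ⟨e, by rw [smul_comm, he, smul_zero]⟩ }
  have hmT : ∀ h : H, T.mkQ h = 0 → ∃ e : ℕ, f ^ e • h = 0 := fun h hh => by
    exact (Submodule.Quotient.mk_eq_zero _).1 hh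
  let vbar : C →ₗ[R] H ⧸ T := Submodule.liftQ ((LinearMap.range u).restrictScalars R) (T.mkQ ∘ₗ v') (by
    rintro _ ⟨x, rfl⟩
    obtain ⟨e, he⟩ := hvu x
    exact (Submodule.Quotient.mk_eq_zero _).2 ⟨e, he⟩)
  have hvbar : ∀ g, vbar (π g) = T.mkQ (v' g) := fun g => rfl
  let θ : C × (κ →₀ R) →ₗ[R] H ⧸ T := vbar.coprod (T.mkQ ∘ₗ ψ)
  have hθk : ∀ m, θ m = 0 → ∃ e : ℕ, f ^ e • m = 0 := by
    rintro ⟨c, l⟩ hm
    obtain ⟨g, rfl⟩ := Submodule.Quotient.mk_surjective _ c
    have hm' : T.mkQ (v' g + ψ l) = 0 := by rw [map_add]; exact hm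
    obtain ⟨e, he⟩ := hmT _ hm'
    have hl : φ (f ^ e • l) = 0 := by
      have h3 := congrArg (Submodule.Quotient.mk (p := LinearMap.range v)) he
      rw [Submodule.Quotient.mk_smul, Submodule.Quotient.mk_add, (Submodule.Quotient.mk_eq_zero _).2
        (show v' g ∈ LinearMap.range v from ⟨g, rfl⟩), zero_add, hψ, Submodule.Quotient.mk_zero, ← map_smul] at h3
      exact h3
    obtain ⟨d, hdl⟩ := h2 _ hl
    have hl0 : l = 0 := (smul_eq_zero.1 (by rwa [smul_smul] at hdl)).resolve_left
      (mul_ne_zero (pow_ne_zero d hf) (pow_ne_zero e hf))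
    subst hl0
    rw [map_zero, add_zero] at he
    obtain ⟨d', hd'⟩ := hker g ⟨e, he⟩
    exact ⟨d', Prod.ext hd' (smul_zero _)⟩
  have hθs : ∀ n, ∃ (e : ℕ) (m : C × (κ →₀ R)), θ m = f ^ e • n := by
    intro n
    obtain ⟨h, rfl⟩ := Submodule.Quotient.mk_surjective _ n
    obtain ⟨e, l, hl⟩ := h1 (Submodule.Quotient.mk h)
    have h3 : f ^ e • h - ψ l ∈ LinearMap.range v := by
      rw [← Submodule.Quotient.mk_eq_zero, Submodule.Quotient.mk_sub, Submodule.Quotient.mk_smul, hψ, hl, sub_self]
    obtain ⟨g, hg⟩ := h3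
    refine ⟨e, (π g, l), ?_⟩
    show vbar (π g) + T.mkQ (ψ l) = f ^ e • T.mkQ h
    rw [hvbar, ← map_add, ← map_smul, show v' g = _ from hg, sub_add_cancel]
  refine ⟨f, hf, fun S _ _ hfS => ?_⟩
  intro x
  constructor
  · intro hx
    have hθ : Function.Injective (θ.lTensor S) := injective_lTensor_of_almost hfS θ hθk hθs
    have h4 : ((LinearMap.inl R C (κ →₀ R)) ∘ₗ π).lTensor S x = 0 := by
      apply hθ
      rw [map_zero, ← LinearMap.comp_apply, ← LinearMap.lTensor_comp,
        show θ ∘ₗ LinearMap.inl R C (κ →₀ R) ∘ₗ π = T.mkQ ∘ₗ v' from LinearMap.ext fun g => by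
          show vbar (π g) + T.mkQ (ψ 0) = _
          rw [map_zero, map_zero, add_zero]
          rfl,
        LinearMap.lTensor_comp, LinearMap.comp_apply, show v'.lTensor S x = 0 from hx, map_zero]
    have h5 : π.lTensor S x = 0 := by
      have := congrArg ((LinearMap.fst R C (κ →₀ R)).lTensor S) h4
      rwa [← LinearMap.comp_apply, ← LinearMap.lTensor_comp, map_zero,
        show LinearMap.fst R C (κ →₀ R) ∘ₗ LinearMap.inl R C (κ →₀ R) ∘ₗ π = π from rfl] at this
    exact (lTensor_exact S (f := u') (g := π) (fun g => by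
      show Submodule.Quotient.mk g = 0 ↔ _
      rw [Submodule.Quotient.mk_eq_zero]
      rfl) (Submodule.mkQ_surjective _) x).1 h5
  · rintro ⟨w, rfl⟩
    induction w using TensorProduct.induction_on with
    | zero => simp
    | tmul a y =>
      obtain ⟨e, he⟩ := hvu y
      obtain ⟨c, hc⟩ := (hfS.pow e).exists_right_inv
      rw [LinearMap.baseChange_tmul, LinearMap.baseChange_tmul,
        show a = f ^ e • (c * a) by rw [Algebra.smul_def, map_pow, ← mul_assoc, hc, one_mul],
        TensorProduct.smul_tmul, he, TensorProduct.tmul_zero]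
    | add p q hp hq => rw [map_add, map_add, hp, hq, add_zero]

end GrothLib.GenExact
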